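import Cfsg.Agent.H881.P4.Form

/-!
# S5210: the automorphisms of `PG K`, (GRP) (helper881)
-/

set_option autoImplicit false

namespace Cfsg.Agent.H881.P4

open Cfsg Cfsg.FusionSystem Cfsg.Agent.H776.P4
open Cfsg.Agent.H756.PU (HypK Ess Inv Com NormAut TIAut AF)
open Cfsg.Agent.H767.PU (Fx Tz mem_Fx card_Fx exists_tr one_lt_q)

universe u

variable {K : Type u} [Field K] [StarRing K] {p n : ℕ}

theorem star_ne {x : K} (h : x ≠ 0) : star x ≠ 0 := star_ne_zero.mpr h

theorem tau_star (h : HypK K p n) (τ : K ≃+* K) (x : K) : τ (star x) = star (τ x) := by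
  rw [h.star_eq, h.star_eq, map_pow]

theorem tau_symm_star {τ : K ≃+* K} (hτ : ∀ x, τ (star x) = star (τ x)) (x : K) :
    τ.symm (star x) = star (τ.symm x) := by
  apply τ.injective
  rw [RingEquiv.apply_symm_apply, hτ, RingEquiv.apply_symm_apply]

/-! ### `tor` -/

/-- the map underlying `IsTorP` -/
def torFun (s l : K) (hl : star l = l) (τ : K ≃+* K) (hτ : ∀ x, τ (star x) = star (τ x)) (g : PG K) : PG K where
  r := s * τ g.r
  a := s * star s * l * τ g.a
  b := s * l * τ g.b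
  c := l * τ g.c
  ha := by
    have h : star (τ g.a) = τ g.a := by rw [← hτ, g.ha]
    simp only [star_mul', star_star, hl, h]
    ring
  hc := by
    have h : star (τ g.c) = τ g.c := by rw [← hτ, g.hc]
    simp only [star_mul', hl, h]

theorem torFun_mul (s l : K) (hl : star l = l) (τ : K ≃+* K) (hτ : ∀ x, τ (star x) = star (τ x)) (g g' : PG K) :
    torFun s l hl τ hτ (g * g') = torFun s l hl τ hτ g * torFun s l hl τ hτ g' := by
  ext
  · simp only [PG.mul_r, torFun, map_add]; ring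
  · simp only [PG.mul_a, torFun, map_add, map_mul, hτ, star_mul', hl]; ring
  · simp only [PG.mul_b, torFun, map_add, map_mul]; ring
  · simp only [PG.mul_c, torFun, map_add]; ring

theorem torFun_inj {s l : K} (hs : s ≠ 0) (h0 : l ≠ 0) (hl : star l = l) (τ : K ≃+* K)
    (hτ : ∀ x, τ (star x) = star (τ x)) : Function.Injective (torFun s l hl τ hτ) := by
  intro g g' h
  have h1 := congrArg PG.r h
  have h2 := congrArg PG.a h
  have h3 := congrArg PG.b h
  have h4 := congrArg PG.c h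
  have hs' := star_ne hs
  ext
  · exact τ.injective (mul_left_cancel₀ hs h1)
  · exact τ.injective (mul_left_cancel₀ (mul_ne_zero (mul_ne_zero hs hs') h0) h2)
  · exact τ.injective (mul_left_cancel₀ (mul_ne_zero hs h0) h3)
  · exact τ.injective (mul_left_cancel₀ h0 h4)

/-- the automorphism `tor(s, l, τ)` -/
noncomputable def tor (h : HypK K p n) (s l : K) (hs : s ≠ 0) (h0 : l ≠ 0) (hl : star l = l) (τ : K ≃+* K) :
    MulAut (PG K) :=
  have := fin_PG h
  MulEquiv.ofBijective (MonoidHom.mk' (torFun s l hl τ (tau_star h τ)) (torFun_mul s l hl τ (tau_star h τ)))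
    (Finite.injective_iff_bijective.1 (torFun_inj hs h0 hl τ (tau_star h τ)))

theorem isTorP_tor (h : HypK K p n) (s l : K) (hs : s ≠ 0) (h0 : l ≠ 0) (hl : star l = l) (τ : K ≃+* K) :
    IsTorP (tor h s l hs h0 hl τ) s l τ :=
  ⟨hs, h0, hl, tau_star h τ, fun _ => rfl, fun _ => rfl, fun _ => rfl, fun _ => rfl⟩

theorem isTorP_eq {α β : MulAut (PG K)} {s l : K} {τ : K ≃+* K} (hα : IsTorP α s l τ) (hβ : IsTorP β s l τ) :
    α = β := by
  ext g
  · rw [hα.r, hβ.r]
  · rw [hα.a, hβ.a]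
  · rw [hα.b, hβ.b]
  · rw [hα.c, hβ.c]

theorem isTorP_one : IsTorP (1 : MulAut (PG K)) 1 1 (RingEquiv.refl K) := by
  refine ⟨one_ne_zero, one_ne_zero, star_one K, fun _ => rfl, ?_, ?_, ?_, ?_⟩ <;> intro g <;> simp

theorem isTorP_mul {α β : MulAut (PG K)} {s l s' l' : K} {τ ρ : K ≃+* K} (hα : IsTorP α s l τ)
    (hβ : IsTorP β s' l' ρ) : IsTorP (α * β) (s * τ s') (l * τ l') (ρ.trans τ) := by
  refine ⟨mul_ne_zero hα.ns (by simpa using hβ.ns), mul_ne_zero hα.nl (by simpa using hβ.nl), ?_, ?_, ?_, ?_, ?_, ?_⟩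
  · rw [star_mul', hα.sl, ← hα.tst, hβ.sl]
  · intro x; simp [hα.tst, hβ.tst]
  · intro g
    rw [MulAut.mul_apply, hα.r, hβ.r]
    simp only [map_mul, RingEquiv.coe_trans, Function.comp_apply]
    ring
  · intro g
    rw [MulAut.mul_apply, hα.a, hβ.a]
    simp only [map_mul, RingEquiv.coe_trans, Function.comp_apply, hα.tst, star_mul']
    ring
  · intro g
    rw [MulAut.mul_apply, hα.b, hβ.b]
    simp only [map_mul, RingEquiv.coe_trans, Function.comp_apply]
    ring
  · intro g
    rw [MulAut.mul_apply, hα.c, hβ.c]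
    simp only [map_mul, RingEquiv.coe_trans, Function.comp_apply]
    ring

theorem isTorP_inv {α : MulAut (PG K)} {s l : K} {τ : K ≃+* K} (hα : IsTorP α s l τ) :
    IsTorP α⁻¹ (τ.symm s)⁻¹ (τ.symm l)⁻¹ τ.symm := by
  have hs : τ.symm s ≠ 0 := by simpa using hα.ns
  have hl : τ.symm l ≠ 0 := by simpa using hα.nl
  have hs' := star_ne hs
  have hg : ∀ g : PG K, α (α⁻¹ g) = g := fun g => by rw [← MulAut.mul_apply, mul_inv_cancel, MulAut.one_apply]
  have hst := tau_symm_star hα.tst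
  have hls : star (τ.symm l) = τ.symm l := by rw [← hst, hα.sl]
  refine ⟨inv_ne_zero hs, inv_ne_zero hl, ?_, hst, ?_, ?_, ?_, ?_⟩
  · rw [star_inv₀, hls]
  · intro g
    have h1 := congrArg τ.symm ((hα.r (α⁻¹ g)).symm.trans (congrArg PG.r (hg g)))
    rw [map_mul, RingEquiv.symm_apply_apply] at h1
    rw [← h1]; field_simp
  · intro g
    have h1 := congrArg τ.symm ((hα.a (α⁻¹ g)).symm.trans (congrArg PG.a (hg g)))
    rw [map_mul, map_mul, map_mul, RingEquiv.symm_apply_apply, hst] at h1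
    rw [← h1, star_inv₀]; field_simp
  · intro g
    have h1 := congrArg τ.symm ((hα.b (α⁻¹ g)).symm.trans (congrArg PG.b (hg g)))
    rw [map_mul, map_mul, RingEquiv.symm_apply_apply] at h1
    rw [← h1]; field_simp
  · intro g
    have h1 := congrArg τ.symm ((hα.c (α⁻¹ g)).symm.trans (congrArg PG.c (hg g)))
    rw [map_mul, RingEquiv.symm_apply_apply] at h1
    rw [← h1]; field_simp

/-- `TP K` is the set of all the `tor(s, l, τ)` -/
theorem mem_TP {α : MulAut (PG K)} : α ∈ TP K ↔ ∃ s l τ, IsTorP α s l τ := by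
  constructor
  · intro h
    refine Subgroup.closure_induction (p := fun α _ => ∃ s l τ, IsTorP α s l τ) ?_ ?_ ?_ ?_ h
    · intro x hx; exact hx
    · exact ⟨_, _, _, isTorP_one⟩
    · rintro x y _ _ ⟨x1, x2, τ, hx⟩ ⟨y1, y2, ρ, hy⟩
      exact ⟨_, _, _, isTorP_mul hx hy⟩
    · rintro x _ ⟨x1, x2, τ, hx⟩
      exact ⟨_, _, _, isTorP_inv hx⟩
  · intro h
    exact Subgroup.subset_closure h

/-! ### `θ_ψ` -/

/-- the map underlying `IsTh` -/
def thFun (ψ : K → K) (hf : ∀ x : K, star x = x → star (ψ x) = ψ x) (g : PG K) : PG K where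
  r := g.r
  a := g.a + ψ g.c
  b := g.b
  c := g.c
  ha := by rw [star_add, g.ha, hf _ g.hc]
  hc := g.hc

theorem exists_th (ψ : K → K) (hadd : ∀ x y : K, star x = x → star y = y → ψ (x + y) = ψ x + ψ y)
    (hf : ∀ x : K, star x = x → star (ψ x) = ψ x) : ∃ θ : MulAut (PG K), Cfsg.Agent.H776.P4.IsTh ψ θ := by
  have hmul : ∀ g g' : PG K, thFun ψ hf (g * g') = thFun ψ hf g * thFun ψ hf g' := by
    intro g g'
    ext
    · rfl
    · simp only [PG.mul_a, thFun, PG.mul_c, hadd _ _ g.hc g'.hc]; ring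
    · rfl
    · rfl
  have h0 : ψ 0 = 0 := by
    have h := hadd 0 0 (star_zero K) (star_zero K)
    rw [add_zero] at h
    exact left_eq_add.1 h
  have hneg : ∀ x : K, star x = x → ψ (-x) = -ψ x := by
    intro x hx
    have h := hadd x (-x) hx (by rw [star_neg, hx])
    rw [add_neg_cancel, h0] at h
    linear_combination -h
  have hf' : ∀ x : K, star x = x → star ((fun y => ψ (-y)) x) = (fun y => ψ (-y)) x := by
    intro x hx
    exact hf _ (by rw [star_neg, hx])
  have hl : ∀ g : PG K, thFun (fun y => ψ (-y)) hf' (thFun ψ hf g) = g := by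
    intro g
    ext
    · rfl
    · simp only [thFun, hneg _ g.hc]; ring
    · rfl
    · rfl
  have hr : ∀ g : PG K, thFun ψ hf (thFun (fun y => ψ (-y)) hf' g) = g := by
    intro g
    ext
    · rfl
    · simp only [thFun, hneg _ g.hc]; ring
    · rfl
    · rfl
  let e : PG K ≃ PG K := ⟨thFun ψ hf, thFun (fun y => ψ (-y)) hf', hl, hr⟩
  exact ⟨MulEquiv.mk' e hmul, ⟨hadd, hf, fun _ => rfl, fun _ => rfl, fun _ => rfl, fun _ => rfl⟩⟩

/-! ### `ε_κ` -/

/-- the map underlying `IsEp` -/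
def epFun (κ : K) (g : PG K) : PG K where
  r := g.r
  a := g.a - (star κ * (g.r * g.r) + κ * star (g.r * g.r))
  b := g.b + κ * star g.r
  c := g.c
  ha := by
    simp only [star_sub, star_add, star_mul', star_star, g.ha]
    ring
  hc := g.hc

theorem epFun_mul (h3 : (3 : K) = 0) (κ : K) (g g' : PG K) : epFun κ (g * g') = epFun κ g * epFun κ g' := by
  ext
  · rfl
  · simp only [PG.mul_a, PG.mul_r, epFun, star_mul', star_add, star_star]
    linear_combination (-(star κ * g.r * g'.r) - κ * star g.r * star g'.r) * h3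
  · simp only [PG.mul_b, PG.mul_r, epFun, star_add]; ring
  · rfl

theorem exists_ep (h : HypK K p n) (hp : p = 3) (κ : K) : ∃ ε, IsEp κ ε := by
  have hch := h.char
  have h3 : (3 : K) = 0 := by
    have := CharP.cast_eq_zero K p
    rw [hp] at this
    exact_mod_cast this
  have := fin_PG h
  have hinj : Function.Injective (epFun κ : PG K → PG K) := by
    intro g g' hg
    have h1 : g.r = g'.r := (congrArg PG.r hg : (epFun κ g).r = (epFun κ g').r)
    have h2 : g.a - (star κ * (g.r * g.r) + κ * star (g.r * g.r)) =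
      g'.a - (star κ * (g'.r * g'.r) + κ * star (g'.r * g'.r)) := congrArg PG.a hg
    have h3 : g.b + κ * star g.r = g'.b + κ * star g'.r := congrArg PG.b hg
    have h4 : g.c = g'.c := (congrArg PG.c hg : (epFun κ g).c = (epFun κ g').c)
    rw [h1] at h2 h3
    exact PG.ext h1 (sub_left_injective h2) (add_right_cancel h3) h4
  exact ⟨MulEquiv.ofBijective (MonoidHom.mk' (epFun κ) (epFun_mul h3 κ)) (Finite.injective_iff_bijective.1 hinj),
    ⟨fun _ => rfl, fun _ => rfl, fun _ => rfl, fun _ => rfl⟩⟩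

/-! ### the Weyl elements -/

/-- the map underlying `IsWV` -/
def wvFun (g : PV K) : PV K := ⟨
  { r := 0, a := (g : PG K).c, b := - star (g : PG K).b, c := (g : PG K).a
    ha := (g : PG K).hc
    hc := (g : PG K).ha }, rfl⟩

theorem wvFun_mul (g g' : PV K) : wvFun (g * g') = wvFun g * wvFun g' := by
  apply Subtype.ext
  have hg : (g : PG K).r = 0 := g.2
  ext
  · simp [wvFun]
  · simp [wvFun, PG.mul_a]
  · simp only [wvFun, Subgroup.coe_mul, PG.mul_b, star_add, star_mul', hg, star_zero]; ring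
  · simp only [wvFun, Subgroup.coe_mul, PG.mul_a, PG.mul_c, hg, star_zero]; ring

theorem wvFun_invol (g : PV K) : wvFun (wvFun g) = g := by
  apply Subtype.ext
  ext
  · exact (mem_PV.1 g.2).symm
  · rfl
  · simp [wvFun]
  · rfl

variable (K) in
/-- the Weyl element on `V` -/
noncomputable def wv : MulAut (PV K) where
  toFun := wvFun
  invFun := wvFun
  left_inv := wvFun_invol
  right_inv := wvFun_invol
  map_mul' := wvFun_mul

theorem isWV_wv : IsWV (wv K) := ⟨fun _ => rfl, fun _ => rfl, fun _ => rfl⟩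

theorem isWV_eq {γ δ : MulAut (PV K)} (hγ : IsWV γ) (hδ : IsWV δ) : γ = δ := by
  ext g
  · rw [mem_PV.1 (γ g).2, mem_PV.1 (δ g).2]
  · rw [hγ.a, hδ.a]
  · rw [hγ.b, hδ.b]
  · rw [hγ.c, hδ.c]

/-- the map underlying `IsWQ` -/
def wqFun (g : PQ K) : PQ K := ⟨
  { r := (g : PG K).b, a := (g : PG K).a - ((g : PG K).r * star (g : PG K).b + star (g : PG K).r * (g : PG K).b)
    b := - (g : PG K).r, c := 0
    ha := by
      simp only [star_sub, star_add, star_mul', star_star, (g : PG K).ha]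
      ring
    hc := star_zero K }, rfl⟩

theorem wqFun_mul (g g' : PQ K) : wqFun (g * g') = wqFun g * wqFun g' := by
  apply Subtype.ext
  have hg : (g : PG K).c = 0 := g.2
  have hg' : (g' : PG K).c = 0 := g'.2
  ext
  · simp only [wqFun, Subgroup.coe_mul, PG.mul_b, PG.mul_r, hg']; ring
  · simp only [wqFun, Subgroup.coe_mul, PG.mul_a, PG.mul_b, PG.mul_r, hg', star_add, star_neg, star_mul', star_zero]; ring
  · simp only [wqFun, Subgroup.coe_mul, PG.mul_b, PG.mul_r]; ring
  · simp [wqFun]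

theorem wqFun_four (g : PQ K) : wqFun (wqFun (wqFun (wqFun g))) = g := by
  apply Subtype.ext
  have hg : (g : PG K).c = 0 := g.2
  ext
  · simp [wqFun]
  · simp only [wqFun, star_neg]; ring
  · simp [wqFun]
  · simp [wqFun, hg]

variable (K) in
/-- the Weyl element on `Q` -/
noncomputable def wq : MulAut (PQ K) where
  toFun := wqFun
  invFun g := wqFun (wqFun (wqFun g))
  left_inv := wqFun_four
  right_inv := wqFun_four
  map_mul' := wqFun_mul

theorem isWQ_wq : IsWQ (wq K) := ⟨fun _ => rfl, fun _ => rfl, fun _ => rfl⟩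

theorem isWQ_eq {γ δ : MulAut (PQ K)} (hγ : IsWQ γ) (hδ : IsWQ δ) : γ = δ := by
  ext g
  · rw [hγ.r, hδ.r]
  · rw [hγ.a, hδ.a]
  · rw [hγ.b, hδ.b]
  · rw [mem_PQ.1 (γ g).2, mem_PQ.1 (δ g).2]

/-- (GRP) -/
theorem stGrp : StGrp.{u} := by
  intro K _ _ p n h
  exact ⟨card_PG h, isPGroup_top h, fun s l τ hs h0 hl => ⟨_, isTorP_tor h s l hs h0 hl τ⟩, fun α hα => mem_TP.mp hα,
    fun ψ h1 h2 => exists_th ψ h1 h2, fun h3 κ => exists_ep h h3 κ, ⟨wv K, isWV_wv⟩, ⟨wq K, isWQ_wq⟩⟩

end Cfsg.Agent.H881.P4
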